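import Groth.Prelude.Def_DualSch
import Groth.Prelude.Def_DDual2
import Groth.Prelude.Def_DCoh2
import Groth.Prelude.Def_Coh
import Groth.Prelude.Def_ClSub2
import Groth.Prelude.Def_EGA4b
import Groth.Prelude.Def_CAlg
import Groth.Prelude.Def_CohB1
import Groth.Prelude.Def_RelProj
import Groth.Prelude.Def_Dual3
import Mathlib.AlgebraicGeometry.Morphisms.Proper
import Mathlib.AlgebraicGeometry.Noetherian
import Mathlib.Topology.KrullDimension
import Mathlib.RingTheory.KrullDimension.Basic
/-!
# The data a counterexample to S15710, S15711 and S15718 has to deliver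

`GeoEx`, `CohEx` and `DualEx` list exactly the facts about one proper birational morphism `f : X ⟶ Y` of
Cohen-Macaulay schemes of pure dimension 2 (with `X` not normal) from which the negations of the three
statements are formal.
-/
set_option autoImplicit false
universe u
open CategoryTheory CategoryTheory.Limits AlgebraicGeometry TopologicalSpace
attribute [local instance] HasDerivedCategory.standard

namespace Groth.Agent.Refuted.K836

/-- The geometric part: a proper birational `f : X ⟶ Y` of excellent Cohen-Macaulay schemes of pure dimension 2. -/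
structure GeoEx where
  /-- the source -/
  X : Scheme.{u}
  /-- the target -/
  Y : Scheme.{u}
  /-- the modification -/
  f : X ⟶ Y
  noethX : IsNoetherian X
  noethY : IsNoetherian Y
  affY : IsAffine Y
  excX : ∀ U : X.affineOpens, EGA4.IsExcellent Γ(X, U.1)
  excY : ∀ U : Y.affineOpens, EGA4.IsExcellent Γ(Y, U.1)
  cmX : ∀ x : X, LocCoh.IsCohenMacaulayLocalRing (X.presheaf.stalk x)
  cmY : ∀ y : Y, LocCoh.IsCohenMacaulayLocalRing (Y.presheaf.stalk y)
  pdX : ∀ C ∈ irreducibleComponents (X : Type u), topologicalKrullDim C = (2 : ℕ)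
  pdY : ∀ C ∈ irreducibleComponents (Y : Type u), topologicalKrullDim C = (2 : ℕ)
  prop : IsProper f
  proj : ∀ y : Y, ∃ U : Y.Opens, y ∈ U ∧ RelProj.IsHProjective (f ∣_ U)
  /-- the open over which `f` is an isomorphism -/
  V : Y.Opens
  codim : ∀ y : Y, y ∉ V → (2 : WithBot ℕ∞) ≤ ringKrullDim (Y.presheaf.stalk y)
  denseV : Dense (V : Set Y)
  denseVX : Dense ((f ⁻¹ᵁ V : X.Opens) : Set X)
  iso : IsIso (f ∣_ V)

/-- The cohomological part: a retraction of `O_Y ⟶ Rf_* O_X` on the level of modules, and `R¹f_* O_X ≠ 0`. -/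
structure CohEx (E : GeoEx.{u}) where
  inj : HasInjectiveResolutions E.X.Modules
  /-- the module `A` (direct image of the structure sheaf of the normalisation) -/
  A : E.X.Modules
  /-- `O_X ⟶ A` -/
  i : Coh.structureModule E.X ⟶ A
  h0 : IsIso (ClSub.unitToPush E.f ≫ (Scheme.Modules.pushforward E.f).map i)
  hp : ∀ p : ℕ, 0 < p → IsZero ((Coh.Rpush E.f p).obj A)
  h1 : ¬ IsZero ((Coh.Rpush E.f 1).obj (Coh.structureModule E.X))

/-- The duality part: a dualizing complex on `Y` (two-dimensional, affine) with quasi-coherent cohomology, in degree `-2` only. -/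
structure DualEx (E : GeoEx.{u}) where
  r1 : ∀ (U : Scheme.{u}) (j : U ⟶ E.Y) [IsOpenImmersion j],
    PreservesFiniteLimits (Scheme.Modules.restrictFunctor j)
  r2 : ∀ (R : CommRingCat.{u}), PreservesFiniteLimits (tilde.functor R)
  /-- the dualizing complex of `Y` -/
  K : DCoh.DQCoh E.Y
  dual : Dual2.IsDualizingSch E.Y K.obj
  deg : ∀ i : ℤ, i ≠ -((2 : ℕ) : ℤ) → IsZero (DCoh.HD K.obj i)

end Groth.Agent.Refuted.K836
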