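import Groth.Agent.Refuted.K836.Iface
import Groth.Agent.Refuted.K870.Split
import Groth.Agent.RatSing.K289.GRCore
import Groth.Agent.Dual.H310.OpenBC
import Groth.Agent.PerfB.TildeExact
import Groth.Agent.CohqB.RelVan
import Groth.Agent.S0922
import Groth.Agent.S0959
import Groth.Agent.S1496
import Groth.Agent.S1810
import Groth.Agent.Ega2.AmpleUnit
import Groth.Agent.PerfC.RpushAffine
import Groth.Agent.Fdesc.StructMod
/-!
# Reduction of the negation of S15718 to one geometric example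

With `S = X = E.Y` (the affine base), `Y = Z = E.X`, `φ = 𝟙`, `ψ = χ = E.f`, `ζ = 𝟙`, every hypothesis of S15718
holds as soon as the trace `Rf_* f^! K ⟶ K` is an epimorphism on cohomology, and the conclusion contradicts
`R¹f_* O_X ≠ 0`.
-/
set_option autoImplicit false
universe u
open CategoryTheory CategoryTheory.Limits AlgebraicGeometry TopologicalSpace
attribute [local instance] HasDerivedCategory.standard

namespace Groth.Agent.Refuted.K836

/-- The frozen statement S15718, as a proposition. -/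
def Stmt718 : Prop :=
  ∀ (S X Y Z : Scheme.{u}) (d : ℕ)
    [IsNoetherian X] [IsNoetherian Y] [IsLocallyNoetherian Z]
    (_hexcX : ∀ U : X.affineOpens, EGA4.IsExcellent Γ(X, U.1)) (_hexcY : ∀ U : Y.affineOpens, EGA4.IsExcellent Γ(Y, U.1))
    (_hexcZ : ∀ U : Z.affineOpens, EGA4.IsExcellent Γ(Z, U.1))
    (_hcmX : ∀ x : X, LocCoh.IsCohenMacaulayLocalRing (X.presheaf.stalk x))
    (_hcmY : ∀ y : Y, LocCoh.IsCohenMacaulayLocalRing (Y.presheaf.stalk y))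
    (_hcmZ : ∀ z : Z, LocCoh.IsCohenMacaulayLocalRing (Z.presheaf.stalk z))
    (_hpdX : ∀ C ∈ irreducibleComponents (X : Type u), topologicalKrullDim C = d)
    (_hpdZ : ∀ C ∈ irreducibleComponents (Z : Type u), topologicalKrullDim C = d)
    (_hpdY : ∀ C ∈ irreducibleComponents (Y : Type u), topologicalKrullDim C = d)
    [∀ (U : Scheme.{u}) (j : U ⟶ X) [IsOpenImmersion j], PreservesFiniteLimits (Scheme.Modules.restrictFunctor j)]
    [∀ (U : Scheme.{u}) (j : U ⟶ Y) [IsOpenImmersion j], PreservesFiniteLimits (Scheme.Modules.restrictFunctor j)]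
    [∀ (R : CommRingCat.{u}), PreservesFiniteLimits (tilde.functor R)]
    (φ : X ⟶ S) (ψ : Y ⟶ S) (χ : Z ⟶ X) (ζ : Z ⟶ Y) [IsProper χ] [IsProper ζ] (_hcomm : χ ≫ φ = ζ ≫ ψ)
    (_hprojχ : ∀ x : X, ∃ U : X.Opens, x ∈ U ∧ RelProj.IsHProjective (χ ∣_ U))
    (_hprojζ : ∀ y : Y, ∃ U : Y.Opens, y ∈ U ∧ RelProj.IsHProjective (ζ ∣_ U))
    (V : X.Opens) (_hV : ∀ x : X, x ∉ V → (2 : WithBot ℕ∞) ≤ ringKrullDim (X.presheaf.stalk x))
    (_hVZ : Dense ((χ ⁻¹ᵁ V : Z.Opens) : Set Z)) [IsIso (χ ∣_ V)]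
    (V' : Y.Opens) (_hV' : ∀ y : Y, y ∉ V' → (2 : WithBot ℕ∞) ≤ ringKrullDim (Y.presheaf.stalk y))
    (_hV'Z : Dense ((ζ ⁻¹ᵁ V' : Z.Opens) : Set Z)) [IsIso (ζ ∣_ V')]
    [DCoh.HasRpush χ] (hχ : DCoh.RpushPreservesQCoh χ) [DCoh.HasShriek χ hχ]
    [DCoh.HasRpush ζ] (hζ : DCoh.RpushPreservesQCoh ζ) [DCoh.HasShriek ζ hζ]
    (K : DCoh.DQCoh X) (_hK : Dual2.IsDualizingSch X K.obj) (_hKd : ∀ i : ℤ, i ≠ -(d : ℤ) → IsZero (DCoh.HD K.obj i))
    (K' : DCoh.DQCoh Y) (_hK' : Dual2.IsDualizingSch Y K'.obj) (_hK'd : ∀ i : ℤ, i ≠ -(d : ℤ) → IsZero (DCoh.HD K'.obj i))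
    (_hsurjχ : Epi ((DerivedCategory.homologyFunctor X.Modules (-(d : ℤ))).map
      ((ObjectProperty.ι DCoh.IsQCohD).map ((DCoh.trace χ hχ).app K))))
    (_hsurjζ : Epi ((DerivedCategory.homologyFunctor Y.Modules (-(d : ℤ))).map
      ((ObjectProperty.ι DCoh.IsQCohD).map ((DCoh.trace ζ hζ).app K'))))
    [DCoh.HasRpush φ] [DCoh.HasRpush ψ] [DCoh.HasRpush (χ ≫ φ)] [DCoh.HasRpush (ζ ≫ ψ)]
    (_eφ : DCoh.Rpush χ ⋙ DCoh.Rpush φ ≅ DCoh.Rpush (χ ≫ φ)) (_eψ : DCoh.Rpush ζ ⋙ DCoh.Rpush ψ ≅ DCoh.Rpush (ζ ≫ ψ)),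
    Nonempty ((DCoh.Rpush φ).obj (DCoh.inD X (Coh.structureModule X)) ≅
      (DCoh.Rpush ψ).obj (DCoh.inD Y (Coh.structureModule Y)))

section Id

variable (X : Scheme.{u})

/-- `O_X ⟶ 𝟙_* O_X` is an isomorphism. -/
theorem isIso_unitToPush_id : IsIso (ClSub.unitToPush (𝟙 X)) := by
  have h : ClSub.unitToPush (𝟙 X) ≫ (Scheme.Modules.pushforwardId X).hom.app _ =
      𝟙 (Coh.structureModule X) := by
    ext V s
    rfl
  have h2 : IsIso (ClSub.unitToPush (𝟙 X) ≫ (Scheme.Modules.pushforwardId X).hom.app _) := by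
    rw [h]
    infer_instance
  exact IsIso.of_isIso_comp_right _ ((Scheme.Modules.pushforwardId X).hom.app _)

/-- The identity has no higher direct images. -/
theorem isZero_Rpush_id [HasInjectiveResolutions X.Modules] (M : X.Modules) (hM : Coh.IsQCoh M)
    (p : ℕ) (hp : 0 < p) : IsZero ((Coh.Rpush (𝟙 X) p).obj M) :=
  PerfC.RpushAffine.isZero_Rpush (𝟙 X) M hM p hp

/-- The identity is locally H-projective. -/
theorem isHProjective_id (x : X) : ∃ U : X.Opens, x ∈ U ∧ RelProj.IsHProjective (𝟙 X ∣_ U) := by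
  obtain ⟨U, hU, hx, -⟩ := exists_isAffineOpen_mem_and_subset (x := x) (U := (⊤ : X.Opens)) trivial
  refine ⟨U, hx, ?_⟩
  have : IsAffine (U : Scheme.{u}) := hU
  have h1 : IsAffine ((𝟙 X) ⁻¹ᵁ U : Scheme.{u}) := hU
  exact ((S1496.result ⟨_, Ega2.Weight.isAmple_structureModule _⟩ (𝟙 X ∣_ U)).1).2
    ⟨inferInstance, _, Ega2.Weight.isAmple_structureModule _⟩

end Id

variable (E : GeoEx.{u})

/-- S15718 is false as soon as the trace of `E.f` is an epimorphism on cohomology and `R¹f_* O_X ≠ 0`. -/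
theorem not_stmt718 (D : DualEx E) [HasInjectiveResolutions E.X.Modules]
    (hepi : ∀ [DCoh.HasRpush E.f] (h : DCoh.RpushPreservesQCoh E.f) [DCoh.HasShriek E.f h] (K : DCoh.DQCoh E.Y)
      (n : ℤ), Epi ((DerivedCategory.homologyFunctor E.Y.Modules n).map
        ((ObjectProperty.ι DCoh.IsQCohD).map ((DCoh.trace E.f h).app K))))
    (h1 : ¬ IsZero ((Coh.Rpush E.f 1).obj (Coh.structureModule E.X))) : ¬ Stmt718.{u} := by
  intro H
  have := E.noethX
  have := E.noethY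
  have := E.affY
  have := E.prop
  have := E.iso
  have := D.r1
  have := D.r2
  have hRf : DCoh.HasRpush E.f := Dcoh.DerSch.hasRpush _
  have hR1 : DCoh.HasRpush (𝟙 E.X) := Dcoh.DerSch.hasRpush _
  have hR2 : DCoh.HasRpush (𝟙 E.Y) := Dcoh.DerSch.hasRpush _
  have hR3 : DCoh.HasRpush (E.f ≫ 𝟙 E.Y) := Dcoh.DerSch.hasRpush _
  have hR4 : DCoh.HasRpush (𝟙 E.X ≫ E.f) := Dcoh.DerSch.hasRpush _
  have hL1 : DCoh.HasLpull (𝟙 E.X) := S0959.result _
  have hf : DCoh.RpushPreservesQCoh E.f := Dual.H310.OpenBC.preservesQCoh _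
  have hi : DCoh.RpushPreservesQCoh (𝟙 E.X) := Dual.H310.OpenBC.preservesQCoh _
  have hSf : DCoh.HasShriek E.f hf := Dual.H310.OpenBC.isLeftAdjoint_rpushQ _ _
  have hS1 : DCoh.HasShriek (𝟙 E.X) hi := Dual.H310.OpenBC.isLeftAdjoint_rpushQ _ _
  have hinjY : HasInjectiveResolutions E.Y.Modules := Dcoh.DerSch.hasInjectiveResolutions _
  obtain ⟨e1⟩ := S0922.result E.f (𝟙 E.Y)
  obtain ⟨e2⟩ := S0922.result (𝟙 E.X) E.f
  have hq : Coh.IsQCoh (Coh.structureModule E.X) := Fdesc.StructMod.isQCoh_structureModule _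
  have hqY : Coh.IsQCoh (Coh.structureModule E.Y) := Fdesc.StructMod.isQCoh_structureModule _
  -- `K' = f^! K`
  have hr : ∀ (U : Scheme.{u}) (j : U ⟶ E.X) [IsOpenImmersion j],
      PreservesFiniteLimits (Scheme.Modules.restrictFunctor j) := fun _ _ _ => inferInstance
  let K' : DCoh.DQCoh E.X := (DCoh.shriek E.f hf).obj D.K
  have hK' : Dual2.IsDualizingSch E.X K'.obj :=
    S1810.result E.X E.Y E.f hf _ (DCoh.shriekAdj E.f hf) D.K D.dual
  have hK'd : ∀ i : ℤ, i ≠ -((2 : ℕ) : ℤ) → IsZero (DCoh.HD K'.obj i) :=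
    K289.GRCore.isZero_HD E.f hf (DCoh.shriekAdj E.f hf) E.cmX E.V E.denseVX D.K D.dual _ D.deg
  -- the trace of the identity
  have hζ : Epi ((DerivedCategory.homologyFunctor E.X.Modules (-((2 : ℕ) : ℤ))).map
      ((ObjectProperty.ι DCoh.IsQCohD).map ((DCoh.trace (𝟙 E.X) hi).app K'))) := by
    refine K870.Split.epi_homology_trace (𝟙 E.X) (𝟙 (Coh.structureModule E.X)) ?_
      (fun p hp => isZero_Rpush_id E.X _ hq p hp) hi K' _
    rw [CategoryTheory.Functor.map_id, Category.comp_id]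
    exact isIso_unitToPush_id E.X
  have htop : IsIso (𝟙 E.X ∣_ (⊤ : E.X.Opens)) := inferInstance
  obtain ⟨e⟩ := H E.Y E.Y E.X E.X 2 E.excY E.excX E.excX E.cmY E.cmX E.cmX E.pdY E.pdX E.pdX
    (𝟙 E.Y) E.f E.f (𝟙 E.X) (by simp) E.proj (isHProjective_id E.X) E.V E.codim E.denseVX
    ⊤ (fun y hy => absurd trivial hy) (by simp) hf hi D.K D.dual D.deg K' hK' hK'd
    (hepi hf D.K _) hζ e1 e2
  apply h1
  refine IsZero.of_iso ?_ (PerfC.RpushSingle.iso E.f 1 (Coh.structureModule E.X)).symm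
  refine IsZero.of_iso ?_ ((DerivedCategory.homologyFunctor E.Y.Modules ((1 : ℕ) : ℤ)).mapIso e.symm)
  exact (isZero_Rpush_id E.Y _ hqY 1 one_pos).of_iso
    (PerfC.RpushSingle.iso (𝟙 E.Y) 1 (Coh.structureModule E.Y))

end Groth.Agent.Refuted.K836
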